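import Cfsg.Agent.H187.F4.Defs
import Cfsg.Agent.H290.Wei.CharOne
import Cfsg.Agent.H946.ExcSameBase

/-!
# S3691, row `F₄(q)`: one prime of a class gives all; the list of class 12 (helper454)

* `zt_of_one` (P3);
* `ty12` (P5).
-/

set_option autoImplicit false

namespace Cfsg.Agent.H454.F4

open Cfsg Cfsg.Agent.OrdDiv Cfsg.Agent.H436 Cfsg.Agent.H915.GN Cfsg.Agent.H264.GN Cfsg.Agent.H264.FKS Cfsg.Agent.H325.Same
  Cfsg.Agent.H946.KZ Cfsg.Agent.H187.F4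

variable {p f c : ℕ} {g : Grp}

/-! ### the data of a name -/

theorem pow_ne_zero_exp {p b : ℕ} (h : IsPrimePow (p ^ b)) : b ≠ 0 := by
  rintro rfl
  rw [pow_zero] at h
  exact h.ne_one rfl

/-- the data of a name in characteristic `p` -/
theorem dt_of (hp : p.Prime) (hg : Cond g) (hch : HasChar p g) (hc : den g * c = num g) (h0 : c ≠ 0) :
    ∃ b, H946.Exc.Dt p b c g := by
  have key : ∀ {q : ℕ}, (∃ f, q = p ^ f) → IsPrimePow q → ∃ b, b ≠ 0 ∧ q = p ^ b := by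
    rintro q ⟨b, rfl⟩ h
    exact ⟨b, pow_ne_zero_exp h, rfl⟩
  have key2 : ∀ {l m q : ℕ}, l.Prime → (∃ f, q = p ^ f) → q = l ^ (2 * m + 1) → ∃ b, b ≠ 0 ∧ q = p ^ b := by
    rintro l m q hl ⟨b, rfl⟩ h
    refine ⟨b, ?_, rfl⟩
    rintro rfl
    rw [pow_zero] at h
    have h5 : 1 < l ^ (2 * m + 1) := Nat.one_lt_pow (by omega) hl.one_lt
    omega
  cases g with
  | psl n q => obtain ⟨b, hb, rfl⟩ := key hch hg.2.2; exact ⟨b, ⟨hp, hb, h0, hg, rfl, hc⟩⟩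
  | psp n q => obtain ⟨b, hb, rfl⟩ := key hch hg.2.2; exact ⟨b, ⟨hp, hb, h0, hg, rfl, hc⟩⟩
  | psu n q => obtain ⟨b, hb, rfl⟩ := key hch hg.2.2; exact ⟨b, ⟨hp, hb, h0, hg, rfl, hc⟩⟩
  | oodd n q => obtain ⟨b, hb, rfl⟩ := key hch hg.2.2; exact ⟨b, ⟨hp, hb, h0, hg, rfl, hc⟩⟩
  | oplus n q => obtain ⟨b, hb, rfl⟩ := key hch hg.2; exact ⟨b, ⟨hp, hb, h0, hg, rfl, hc⟩⟩
  | ominus n q => obtain ⟨b, hb, rfl⟩ := key hch hg.2; exact ⟨b, ⟨hp, hb, h0, hg, rfl, hc⟩⟩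
  | g2 q => obtain ⟨b, hb, rfl⟩ := key hch hg.2; exact ⟨b, ⟨hp, hb, h0, hg, rfl, hc⟩⟩
  | f4 q => obtain ⟨b, hb, rfl⟩ := key hch hg; exact ⟨b, ⟨hp, hb, h0, hg, rfl, hc⟩⟩
  | e6 q => obtain ⟨b, hb, rfl⟩ := key hch hg; exact ⟨b, ⟨hp, hb, h0, hg, rfl, hc⟩⟩
  | e7 q => obtain ⟨b, hb, rfl⟩ := key hch hg; exact ⟨b, ⟨hp, hb, h0, hg, rfl, hc⟩⟩
  | e8 q => obtain ⟨b, hb, rfl⟩ := key hch hg; exact ⟨b, ⟨hp, hb, h0, hg, rfl, hc⟩⟩
  | te6 q => obtain ⟨b, hb, rfl⟩ := key hch hg; exact ⟨b, ⟨hp, hb, h0, hg, rfl, hc⟩⟩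
  | td4 q => obtain ⟨b, hb, rfl⟩ := key hch hg; exact ⟨b, ⟨hp, hb, h0, hg, rfl, hc⟩⟩
  | sz q =>
    obtain ⟨m, -, hq⟩ := id hg
    obtain ⟨b, hb, hb2⟩ := key2 Nat.prime_two hch hq
    exact ⟨b, ⟨hp, hb, h0, hg, hb2, hc⟩⟩
  | ree q =>
    obtain ⟨m, -, hq⟩ := id hg
    obtain ⟨b, hb, hb2⟩ := key2 Nat.prime_three hch hq
    exact ⟨b, ⟨hp, hb, h0, hg, hb2, hc⟩⟩
  | tf4 q =>
    obtain ⟨m, -, hq⟩ := id hg
    obtain ⟨b, hb, hb2⟩ := key2 Nat.prime_two hch hq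
    exact ⟨b, ⟨hp, hb, h0, hg, hb2, hc⟩⟩
  | _ => exact absurd hch (by simp [HasChar])

/-- **(P3)** one prime of a class gives all -/
theorem zt_of_one (hp : p.Prime) (hf : 1 ≤ f) (hg : Cond g) (hch : HasChar p g) (hc : den g * c = num g) {e r : ℕ}
    (he : 3 ≤ e) (hr : Prim p (f * e) r) (hrc : r ∣ c) : ZT p f e c := by
  intro s hs
  rcases eq_or_ne c 0 with h0 | h0
  · rw [h0]; exact dvd_zero _
  · obtain ⟨b, H⟩ := dt_of hp hg hch hc h0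
    have h3 : 3 ≤ f * e := he.trans (Nat.le_mul_of_pos_left _ hf)
    exact (H.dvd_iff h3 hs).2 ((H.dvd_iff h3 hr).1 hrc)

/-! ### explicit orders -/

section

variable {Q : ℕ}

theorem e_psl2 (hQ : 2 ≤ Q) (h : den (.psl 2 Q) * c = num (.psl 2 Q)) : Nat.gcd 2 (Q - 1) * c = Q * (Q ^ 2 - 1) := by
  have h1 : Nat.gcd 2 (Q - 1) * (Q - 1) * c = ((List.range 2).map fun i => Q ^ 2 - Q ^ i).prod := h
  have h6 : ((List.range 2).map fun i => Q ^ 2 - Q ^ i).prod = (Q - 1) * (Q * (Q ^ 2 - 1)) := by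
    have h7 : Q ^ 2 - Q = Q * (Q - 1) := by rw [Nat.mul_sub, mul_one, sq]
    simp only [List.range_succ, List.range_zero, List.nil_append, List.map_cons, List.map_nil,
      List.prod_cons, List.prod_nil, pow_zero, pow_one, mul_one, List.cons_append]
    rw [h7]; ring
  rw [h6, mul_comm (Nat.gcd 2 (Q - 1)), mul_assoc] at h1
  exact Nat.eq_of_mul_eq_mul_left (show 0 < Q - 1 by omega) h1

theorem e_psl3 (hQ : 2 ≤ Q) (h : den (.psl 3 Q) * c = num (.psl 3 Q)) :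
    Nat.gcd 3 (Q - 1) * c = Q ^ 3 * ((Q ^ 2 - 1) * (Q ^ 3 - 1)) := by
  have h1 : Nat.gcd 3 (Q - 1) * (Q - 1) * c = ((List.range 3).map fun i => Q ^ 3 - Q ^ i).prod := h
  have h6 : ((List.range 3).map fun i => Q ^ 3 - Q ^ i).prod = (Q - 1) * (Q ^ 3 * ((Q ^ 2 - 1) * (Q ^ 3 - 1))) := by
    have h7 : Q ^ 3 - Q = Q * (Q ^ 2 - 1) := by rw [Nat.mul_sub, mul_one]; ring_nf
    have h8 : Q ^ 3 - Q ^ 2 = Q ^ 2 * (Q - 1) := by rw [Nat.mul_sub, mul_one]; ring_nf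
    simp only [List.range_succ, List.range_zero, List.nil_append, List.map_cons, List.map_nil,
      List.prod_cons, List.prod_nil, pow_zero, pow_one, mul_one, List.cons_append]
    rw [h7, h8]; ring
  rw [h6, mul_comm (Nat.gcd 3 (Q - 1)), mul_assoc] at h1
  exact Nat.eq_of_mul_eq_mul_left (show 0 < Q - 1 by omega) h1

theorem e_psp2 (h : den (.psp 2 Q) * c = num (.psp 2 Q)) :
    Nat.gcd 2 (Q - 1) * c = Q ^ 4 * ((Q ^ 2 - 1) * (Q ^ 4 - 1)) := by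
  have h1 : Nat.gcd 2 (Q - 1) * c = Q ^ 4 * ((List.range 2).map fun i => Q ^ (2 * (i + 1)) - 1).prod := h
  rw [h1]
  simp only [List.range_succ, List.range_zero, List.nil_append, List.map_cons, List.map_nil,
    List.prod_cons, List.prod_nil, mul_one, List.cons_append, zero_add]

theorem e_prB3 : ((List.range 3).map fun i => Q ^ (2 * (i + 1)) - 1).prod = (Q ^ 2 - 1) * (Q ^ 4 - 1) * (Q ^ 6 - 1) := by
  simp only [List.range_succ, List.range_zero, List.nil_append, List.map_cons, List.map_nil,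
    List.prod_cons, List.prod_nil, mul_one, List.cons_append, zero_add]
  norm_num [mul_assoc]

theorem e_psp3 (h : den (.psp 3 Q) * c = num (.psp 3 Q)) :
    Nat.gcd 2 (Q - 1) * c = Q ^ 9 * ((Q ^ 2 - 1) * (Q ^ 4 - 1) * (Q ^ 6 - 1)) := by
  have h1 : Nat.gcd 2 (Q - 1) * c = Q ^ 9 * ((List.range 3).map fun i => Q ^ (2 * (i + 1)) - 1).prod := h
  rw [h1, e_prB3]

theorem e_oodd3 (h : den (.oodd 3 Q) * c = num (.oodd 3 Q)) :
    2 * c = Q ^ 9 * ((Q ^ 2 - 1) * (Q ^ 4 - 1) * (Q ^ 6 - 1)) := by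
  have h1 : 2 * c = Q ^ 9 * ((List.range 3).map fun i => Q ^ (2 * (i + 1)) - 1).prod := h
  rw [h1, e_prB3]

theorem e_oplus4 (h : den (.oplus 4 Q) * c = num (.oplus 4 Q)) :
    Nat.gcd 4 (Q ^ 4 - 1) * c = Q ^ 12 * ((Q ^ 4 - 1) * ((Q ^ 2 - 1) * (Q ^ 4 - 1) * (Q ^ 6 - 1))) := by
  have h1 : Nat.gcd 4 (Q ^ 4 - 1) * c =
    Q ^ 12 * ((Q ^ 4 - 1) * ((List.range 3).map fun i => Q ^ (2 * (i + 1)) - 1).prod) := h
  rw [h1, e_prB3]

theorem e_psu3 (h : den (.psu 3 Q) * c = num (.psu 3 Q)) :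
    Nat.gcd 3 (Q + 1) * c = Q ^ 3 * ((Q ^ 2 - 1) * (Q ^ 3 + 1)) := by
  have h1 : Nat.gcd 3 (Q + 1) * (Q + 1) * c = Q ^ 3 * ((Q ^ 1 + 1) * ((Q ^ 2 - 1) * ((Q ^ 3 + 1) * 1))) := h
  rw [pow_one, mul_one, mul_comm (Nat.gcd 3 (Q + 1)), mul_assoc,
    show Q ^ 3 * ((Q + 1) * ((Q ^ 2 - 1) * (Q ^ 3 + 1))) = (Q + 1) * (Q ^ 3 * ((Q ^ 2 - 1) * (Q ^ 3 + 1))) by ring] at h1
  exact Nat.eq_of_mul_eq_mul_left (show 0 < Q + 1 by omega) h1

theorem e_psu4 (h : den (.psu 4 Q) * c = num (.psu 4 Q)) :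
    Nat.gcd 4 (Q + 1) * c = Q ^ 6 * ((Q ^ 2 - 1) * (Q ^ 3 + 1) * (Q ^ 4 - 1)) := by
  have h1 : Nat.gcd 4 (Q + 1) * (Q + 1) * c =
    Q ^ 6 * ((Q ^ 1 + 1) * ((Q ^ 2 - 1) * ((Q ^ 3 + 1) * ((Q ^ 4 - 1) * 1)))) := h
  rw [pow_one, mul_one, mul_comm (Nat.gcd 4 (Q + 1)), mul_assoc,
    show Q ^ 6 * ((Q + 1) * ((Q ^ 2 - 1) * ((Q ^ 3 + 1) * (Q ^ 4 - 1)))) =
      (Q + 1) * (Q ^ 6 * ((Q ^ 2 - 1) * (Q ^ 3 + 1) * (Q ^ 4 - 1))) by ring] at h1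
  exact Nat.eq_of_mul_eq_mul_left (show 0 < Q + 1 by omega) h1

end

/-! ### powers of a prime -/

theorem pow_of {s D X k : ℕ} (hs : s.Prime) (h : D * c = X) (hD : ¬ s ∣ D) (hX : s ^ k ∣ X) : s ^ k ∣ c := by
  rw [← h] at hX
  exact (Nat.Coprime.pow_left k ((Nat.Prime.coprime_iff_not_dvd hs).2 hD)).dvd_of_dvd_mul_left hX

theorem nd_gcd {s k x : ℕ} (h5 : 5 ≤ s) (h0 : 0 < k) (h4 : k ≤ 4) : ¬ s ∣ Nat.gcd k x := by
  intro h
  have h1 := Nat.le_of_dvd h0 (h.trans (Nat.gcd_dvd_left _ _))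
  omega

theorem nd_two {s : ℕ} (h5 : 5 ≤ s) : ¬ s ∣ 2 := fun h => by
  have h1 := Nat.le_of_dvd (by norm_num) h
  omega

/-- the powers of `s` in the factors -/
structure SP (q s v : ℕ) : Prop where
  a : s ^ v ∣ q ^ 4 - 1
  b : s ^ v ∣ q ^ 2 + 1

theorem sub_dvd {q a b : ℕ} (h : a ∣ b) : q ^ a - 1 ∣ q ^ b - 1 := by
  obtain ⟨k, rfl⟩ := h
  rw [pow_mul]
  have := Nat.sub_dvd_pow_sub_pow (q ^ a) 1 k
  rwa [one_pow] at this

theorem sp_of {q s : ℕ} (hs : Prim q 4 s) : SP q s ((q ^ 4 - 1).factorization s) := by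
  have h1 : s ^ (q ^ 4 - 1).factorization s ∣ q ^ 4 - 1 := Nat.ordProj_dvd _ _
  refine ⟨h1, ?_⟩
  have h2 : q ^ 4 - 1 = (q ^ 2 - 1) * (q ^ 2 + 1) := by
    have h3 := Nat.sq_sub_sq (q ^ 2) 1
    rw [one_pow, ← pow_mul] at h3
    rw [h3, mul_comm]
  have h4 : ¬ s ∣ q ^ 2 - 1 := hs.not_dvd_sub (by norm_num)
  rw [h2] at h1 ⊢
  exact (Nat.Coprime.pow_left _ ((Nat.Prime.coprime_iff_not_dvd hs.prime).2 h4)).dvd_of_dvd_mul_left h1

theorem SP.six {q s v : ℕ} (h : SP q s v) : s ^ v ∣ q ^ 6 + 1 := by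
  have h1 : q ^ 2 + 1 ∣ (q ^ 2) ^ 3 + 1 ^ 3 := Odd.nat_add_dvd_pow_add_pow _ _ (by decide)
  rw [one_pow, ← pow_mul] at h1
  exact h.b.trans h1

theorem SP.sub {q s v k : ℕ} (h : SP q s v) (hk : 4 ∣ k) : s ^ v ∣ q ^ k - 1 := h.a.trans (sub_dvd hk)

theorem sub4 {q : ℕ} (hq : 1 ≤ q) : q ^ 12 - 1 = (q ^ 4 - 1) * (q ^ 8 + q ^ 4 + 1) := by
  have h1 : 1 ≤ q ^ 4 := Nat.one_le_pow _ _ hq
  have h2 : 1 ≤ q ^ 12 := Nat.one_le_pow _ _ hq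
  zify [h1, h2]
  ring

/-- the `s`-part of the order of `F₄(q)` -/
theorem val_le {q s k : ℕ} (hq : 2 ≤ q) (hs : Prim q 4 s) (h5 : 5 ≤ s)
    (h : s ^ k ∣ q ^ 24 * ((q ^ 2 - 1) * (q ^ 6 - 1) * (q ^ 8 - 1) * (q ^ 12 - 1))) :
    k ≤ 2 * (q ^ 4 - 1).factorization s := by
  have hsp := hs.prime
  have hpos : ∀ i, 0 < i → q ^ i - 1 ≠ 0 := fun i hi => by
    have : 1 < q ^ i := Nat.one_lt_pow hi.ne' (by omega)
    omega
  have h2 : s ∣ q ^ 4 - 1 := hs.dvd dvd_rfl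
  have e8 : q ^ 8 - 1 = (q ^ 4 - 1) * (q ^ 4 + 1) := by
    have h3 := Nat.sq_sub_sq (q ^ 4) 1
    rw [one_pow, ← pow_mul] at h3
    rw [h3, mul_comm]
  have h1' : 1 ≤ q ^ 4 := Nat.one_le_pow _ _ (by omega)
  have n4 : ¬ s ∣ q ^ 4 + 1 := by
    intro h3
    have h6 := Nat.dvd_sub h3 h2
    rw [show q ^ 4 + 1 - (q ^ 4 - 1) = 2 by omega] at h6
    exact nd_two h5 h6
  have n8 : ¬ s ∣ q ^ 8 + q ^ 4 + 1 := by
    intro h3
    have h6 : s ∣ (q ^ 4 - 1) * (q ^ 4 + 2) := h2.mul_right _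
    have h7 := Nat.dvd_sub h3 h6
    have h8 : q ^ 8 + q ^ 4 + 1 - (q ^ 4 - 1) * (q ^ 4 + 2) = 3 := by
      have : q ^ 8 + q ^ 4 + 1 = (q ^ 4 - 1) * (q ^ 4 + 2) + 3 := by
        zify [h1']
        ring
      omega
    rw [h8] at h7
    have := Nat.le_of_dvd (by norm_num) h7
    omega
  have n2 : ¬ s ∣ q ^ 2 - 1 := hs.not_dvd_sub (by norm_num)
  have n6 : ¬ s ∣ q ^ 6 - 1 := hs.not_dvd_sub (by norm_num)
  have nq : ¬ s ∣ q ^ 24 := hs.not_dvd_pow 24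
  rw [e8, sub4 (by omega : 1 ≤ q),
    show q ^ 24 * ((q ^ 2 - 1) * (q ^ 6 - 1) * ((q ^ 4 - 1) * (q ^ 4 + 1)) * ((q ^ 4 - 1) * (q ^ 8 + q ^ 4 + 1))) =
      (q ^ 24 * (q ^ 2 - 1) * (q ^ 6 - 1) * (q ^ 4 + 1) * (q ^ 8 + q ^ 4 + 1)) * (q ^ 4 - 1) ^ 2 by ring] at h
  have hn : ¬ s ∣ q ^ 24 * (q ^ 2 - 1) * (q ^ 6 - 1) * (q ^ 4 + 1) * (q ^ 8 + q ^ 4 + 1) := by
    simp only [hsp.dvd_mul, not_or]
    exact ⟨⟨⟨⟨nq, n2⟩, n6⟩, n4⟩, n8⟩
  have h9 := (Nat.Coprime.pow_left k ((Nat.Prime.coprime_iff_not_dvd hsp).2 hn)).dvd_of_dvd_mul_left h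
  rw [hsp.pow_dvd_iff_le_factorization (pow_ne_zero _ (hpos 4 (by norm_num))), Nat.factorization_pow] at h9
  simpa using h9

/-- three times is too much -/
theorem no_three {s D X : ℕ} (hp : p.Prime) (hf : 1 ≤ f) (hs : Prim p (f * 4) s) (h5 : 5 ≤ s)
    (hdvd : c ∣ num (.f4 (p ^ f))) (h : D * c = X) (hD : ¬ s ∣ D)
    (hX : s ^ (3 * v4 p f s) ∣ X) : False := by
  have hf0 : f ≠ 0 := by omega
  have h2 : 2 ≤ p ^ f := hp.two_le.trans (Nat.le_self_pow hf0 p)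
  have h1 := pow_of hs.prime h hD hX
  have hs' := H425.PartP.prim_of_pow hf0 hs
  have h3 := val_le h2 hs' h5 (h1.trans hdvd)
  have h4 : 1 ≤ v4 p f s := by
    have h6 : s ∣ (p ^ f) ^ 4 - 1 := hs'.dvd dvd_rfl
    have h7 : (p ^ f) ^ 4 - 1 ≠ 0 := by
      have : 1 < (p ^ f) ^ 4 := Nat.one_lt_pow (by norm_num) (by omega)
      omega
    have := (hs.prime.dvd_iff_one_le_factorization h7).1 h6
    exact this
  change 3 * v4 p f s ≤ 2 * v4 p f s at h3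
  omega

theorem pow3 {s v a b d : ℕ} (h1 : s ^ v ∣ a) (h2 : s ^ v ∣ b) (h3 : s ^ v ∣ d) : s ^ (3 * v) ∣ a * b * d := by
  rw [show s ^ (3 * v) = s ^ v * s ^ v * s ^ v by rw [← pow_add, ← pow_add]; congr 1; ring]
  exact Nat.mul_dvd_mul (Nat.mul_dvd_mul h1 h2) h3

theorem pow2 {s v a b : ℕ} (h1 : s ^ v ∣ a) (h2 : s ^ v ∣ b) : s ^ (2 * v) ∣ a * b := by
  rw [show s ^ (2 * v) = s ^ v * s ^ v by rw [← pow_add]; congr 1; ring]
  exact Nat.mul_dvd_mul h1 h2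

/-- **(P5)** the list of class 12 -/
theorem ty12 (hp : p.Prime) (hf : 1 ≤ f) (_h5 : 5 ≤ p ^ f) (hg : Cond g) (hch : HasChar p g) (hc : den g * c = num g)
    (hdvd : c ∣ num (.f4 (p ^ f))) (hz : ZT p f 12 c) {s t : ℕ} (hs : Prim p (f * 4) s) (ht : Prim p (f * 3) t) :
    g = .f4 (p ^ f) ∨ TyA p f s c ∨ TyB p f s t c := by
  have hf0 : f ≠ 0 := by omega
  have hq2 : 2 ≤ p ^ f := hp.two_le.trans (Nat.le_self_pow hf0 p)
  have hn0 : num (.f4 (p ^ f)) ≠ 0 := by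
    change (p ^ f) ^ 24 * (((p ^ f) ^ 2 - 1) * ((p ^ f) ^ 6 - 1) * ((p ^ f) ^ 8 - 1) * ((p ^ f) ^ 12 - 1)) ≠ 0
    have hpos : ∀ i, 0 < i → (p ^ f) ^ i - 1 ≠ 0 := fun i hi => by
      have : 1 < (p ^ f) ^ i := Nat.one_lt_pow hi.ne' (by omega)
      omega
    have h24 : (p ^ f) ^ 24 ≠ 0 := pow_ne_zero _ (by omega)
    simp only [ne_eq, mul_eq_zero, not_or]
    exact ⟨h24, ⟨⟨hpos 2 (by norm_num), hpos 6 (by norm_num)⟩, hpos 8 (by norm_num)⟩, hpos 12 (by norm_num)⟩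
  have hc0 : c ≠ 0 := fun h => hn0 (Nat.eq_zero_of_zero_dvd (h ▸ hdvd))
  have hs5 : 5 ≤ s := by
    have := H946.Exc.lt_of_prim hp.two_le hs
    omega
  have ht5 : 5 ≤ t := by
    have h1 := H946.Exc.lt_of_prim hp.two_le ht
    by_contra h
    have h4 : t = 4 := by omega
    have h6 := ht.prime
    rw [h4] at h6
    revert h6; norm_num
  have hs' := H425.PartP.prim_of_pow hf0 hs
  have ht' := H425.PartP.prim_of_pow hf0 ht
  have hS : SP (p ^ f) s (v4 p f s) := sp_of hs'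
  have hT : t ^ w3 p f t ∣ (p ^ f) ^ 3 - 1 := Nat.ordProj_dvd _ _
  have lev : ∀ {l k : ℕ}, l.Prime → l ^ k ∣ c → k ≤ c.factorization l := fun hl h =>
    (hl.pow_dvd_iff_le_factorization hc0).1 h
  have vp : ∀ {b : ℕ}, b ≠ 0 → H425.Chr.qOf g = p ^ b → c.factorization p = b * H946.Exc.ex g := fun hb hq =>
    H946.Exc.Dt.fac ⟨hp, hb, hc0, hg, hq, hc⟩
  obtain ⟨f₁, hf₁, hl⟩ := H290.Wei.charp_f4_12 hp hf hg hch hc hdvd hz
  rcases hl with ⟨h1, rfl⟩ | ⟨h1, rfl⟩ | ⟨h1, rfl⟩ | ⟨h1, rfl⟩ | ⟨h1, rfl⟩ | ⟨h1, rfl⟩ | ⟨h1, rfl⟩ | ⟨h1, rfl⟩ |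
    ⟨h1, rfl⟩ | ⟨h1, rfl⟩ | ⟨h1, rfl⟩ | ⟨h1, rfl⟩ | ⟨h1, rfl⟩ | ⟨h1, rfl⟩
  · -- psl 2
    obtain rfl : f₁ = f * 6 := by omega
    right; left
    have h2 := vp (b := f * 6) (by omega) rfl
    have h3 : c.factorization p = f * 6 * 1 := h2
    refine ⟨by omega, lev hs.prime ?_⟩
    have h4 : 2 ≤ p ^ (f * 6) := hp.two_le.trans (Nat.le_self_pow (by omega) p)
    have h5 := e_psl2 h4 hc
    refine pow_of hs.prime h5 (nd_gcd hs5 (by norm_num) (by norm_num)) (Dvd.dvd.mul_left ?_ _)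
    rw [pow_mul p f 6, ← pow_mul _ 6 2]
    exact hS.sub (by norm_num)
  · -- psl 3
    obtain rfl : f₁ = f * 4 := by omega
    right; right
    have h2 := vp (b := f * 4) (by omega) rfl
    have h3 : c.factorization p = f * 4 * 3 := h2
    refine ⟨by omega, Or.inr (lev hs.prime ?_)⟩
    have h4 : 2 ≤ p ^ (f * 4) := hp.two_le.trans (Nat.le_self_pow (by omega) p)
    have h5 := e_psl3 h4 hc
    refine pow_of hs.prime h5 (nd_gcd hs5 (by norm_num) (by norm_num)) (Dvd.dvd.mul_left ?_ _)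
    rw [pow_mul p f 4, ← pow_mul _ 4 2, ← pow_mul _ 4 3]
    exact pow2 (hS.sub (by norm_num)) (hS.sub (by norm_num))
  · -- psp 2
    obtain rfl : f₁ = f * 3 := by omega
    right; right
    have h2 := vp (b := f * 3) (by omega) rfl
    have h3 : c.factorization p = f * 3 * 4 := h2
    refine ⟨by omega, Or.inl (lev ht.prime ?_)⟩
    have h5 := e_psp2 hc
    refine pow_of ht.prime h5 (nd_gcd ht5 (by norm_num) (by norm_num)) (Dvd.dvd.mul_left ?_ _)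
    rw [pow_mul p f 3, ← pow_mul _ 3 2, ← pow_mul _ 3 4]
    exact pow2 (hT.trans (sub_dvd (by norm_num))) (hT.trans (sub_dvd (by norm_num)))
  · -- psp 3
    exfalso
    obtain rfl : f₁ = f * 2 := by omega
    have h5 := e_psp3 hc
    refine no_three hp hf hs hs5 hdvd h5 (nd_gcd hs5 (by norm_num) (by norm_num)) (Dvd.dvd.mul_left ?_ _)
    rw [pow_mul p f 2, ← pow_mul _ 2 2, ← pow_mul _ 2 4, ← pow_mul _ 2 6]
    exact pow3 (hS.sub (by norm_num)) (hS.sub (by norm_num)) (hS.sub (by norm_num))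
  · -- oodd 3
    exfalso
    obtain rfl : f₁ = f * 2 := by omega
    have h5 := e_oodd3 hc
    refine no_three hp hf hs hs5 hdvd h5 (nd_two hs5) (Dvd.dvd.mul_left ?_ _)
    rw [pow_mul p f 2, ← pow_mul _ 2 2, ← pow_mul _ 2 4, ← pow_mul _ 2 6]
    exact pow3 (hS.sub (by norm_num)) (hS.sub (by norm_num)) (hS.sub (by norm_num))
  · -- psu 3
    obtain rfl : f₁ = f * 2 := by omega
    right; left
    have h2 := vp (b := f * 2) (by omega) rfl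
    have h3 : c.factorization p = f * 2 * 3 := h2
    refine ⟨by omega, lev hs.prime ?_⟩
    have h5 := e_psu3 hc
    refine pow_of hs.prime h5 (nd_gcd hs5 (by norm_num) (by norm_num)) (Dvd.dvd.mul_left (Dvd.dvd.mul_right ?_ _) _)
    rw [pow_mul p f 2, ← pow_mul _ 2 2]
    exact hS.sub (by norm_num)
  · -- psu 4
    exfalso
    obtain rfl : f₁ = f * 2 := by omega
    have h5 := e_psu4 hc
    refine no_three hp hf hs hs5 hdvd h5 (nd_gcd hs5 (by norm_num) (by norm_num)) (Dvd.dvd.mul_left ?_ _)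
    rw [pow_mul p f 2, ← pow_mul _ 2 2, ← pow_mul _ 2 3, ← pow_mul _ 2 4]
    exact pow3 (hS.sub (by norm_num)) hS.six (hS.sub (by norm_num))
  · -- oplus 4
    exfalso
    obtain rfl : f₁ = f * 2 := by omega
    have h5 := e_oplus4 hc
    refine no_three hp hf hs hs5 hdvd h5 (nd_gcd hs5 (by norm_num) (by norm_num))
      (Dvd.dvd.mul_left (Dvd.dvd.mul_left ?_ _) _)
    rw [pow_mul p f 2, ← pow_mul _ 2 2, ← pow_mul _ 2 4, ← pow_mul _ 2 6]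
    exact pow3 (hS.sub (by norm_num)) (hS.sub (by norm_num)) (hS.sub (by norm_num))
  · -- g2
    obtain rfl : f₁ = f * 2 := by omega
    right; right
    have h2 := vp (b := f * 2) (by omega) rfl
    have h3 : c.factorization p = f * 2 * 6 := h2
    refine ⟨by omega, Or.inr (lev hs.prime ?_)⟩
    have h5 : 1 * c = (p ^ (f * 2)) ^ 6 * (((p ^ (f * 2)) ^ 2 - 1) * ((p ^ (f * 2)) ^ 6 - 1)) := hc
    refine pow_of hs.prime h5 (fun h => by have := Nat.le_of_dvd one_pos h; omega) (Dvd.dvd.mul_left ?_ _)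
    rw [pow_mul p f 2, ← pow_mul _ 2 2, ← pow_mul _ 2 6]
    exact pow2 (hS.sub (by norm_num)) (hS.sub (by norm_num))
  · -- f4
    obtain rfl : f₁ = f := by omega
    exact Or.inl rfl
  · -- td4
    obtain rfl : f₁ = f := by omega
    right; right
    have h2 := vp (b := f₁) (by omega) rfl
    have h3 : c.factorization p = f₁ * 12 := h2
    refine ⟨by omega, Or.inl (lev ht.prime ?_)⟩
    have h5 : 1 * c = (p ^ f₁) ^ 12 * (((p ^ f₁) ^ 2 - 1) * ((p ^ f₁) ^ 6 - 1) * ((p ^ f₁) ^ 8 + (p ^ f₁) ^ 4 + 1)) := hc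
    refine pow_of ht.prime h5 (fun h => by have := Nat.le_of_dvd one_pos h; omega) (Dvd.dvd.mul_left ?_ _)
    rw [mul_assoc]
    refine Dvd.dvd.mul_left (pow2 (hT.trans (sub_dvd (by norm_num))) ?_) _
    have h6 : t ^ w3 p f₁ t ∣ (p ^ f₁) ^ 12 - 1 := hT.trans (sub_dvd (by norm_num))
    rw [sub4 (by omega)] at h6
    exact (Nat.Coprime.pow_left _ ((Nat.Prime.coprime_iff_not_dvd ht.prime).2
      (ht'.not_dvd_sub (by norm_num)))).dvd_of_dvd_mul_left h6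
  · -- sz
    obtain rfl : f₁ = f * 3 := by omega
    right; left
    have h2 := vp (b := f * 3) (by omega) rfl
    have h3 : c.factorization p = f * 3 * 2 := h2
    refine ⟨by omega, lev hs.prime ?_⟩
    have h5 : 1 * c = (p ^ (f * 3)) ^ 2 * ((p ^ (f * 3) - 1) * ((p ^ (f * 3)) ^ 2 + 1)) := hc
    refine pow_of hs.prime h5 (fun h => by have := Nat.le_of_dvd one_pos h; omega)
      (Dvd.dvd.mul_left (Dvd.dvd.mul_left ?_ _) _)
    rw [pow_mul p f 3, ← pow_mul _ 3 2]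
    exact hS.six
  · -- ree
    obtain rfl : f₁ = f * 2 := by omega
    right; left
    have h2 := vp (b := f * 2) (by omega) rfl
    have h3 : c.factorization p = f * 2 * 3 := h2
    refine ⟨by omega, lev hs.prime ?_⟩
    have h5 : 1 * c = (p ^ (f * 2)) ^ 3 * ((p ^ (f * 2) - 1) * ((p ^ (f * 2)) ^ 3 + 1)) := hc
    refine pow_of hs.prime h5 (fun h => by have := Nat.le_of_dvd one_pos h; omega)
      (Dvd.dvd.mul_left (Dvd.dvd.mul_left ?_ _) _)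
    rw [pow_mul p f 2, ← pow_mul _ 2 3]
    exact hS.six
  · -- tf4
    obtain rfl : f₁ = f := by omega
    right; right
    have h2 := vp (b := f₁) (by omega) rfl
    have h3 : c.factorization p = f₁ * 12 := h2
    refine ⟨by omega, Or.inr (lev hs.prime ?_)⟩
    have h5 : 1 * c = (p ^ f₁) ^ 12 *
      ((p ^ f₁ - 1) * ((p ^ f₁) ^ 3 + 1) * ((p ^ f₁) ^ 4 - 1) * ((p ^ f₁) ^ 6 + 1)) := hc
    refine pow_of hs.prime h5 (fun h => by have := Nat.le_of_dvd one_pos h; omega) (Dvd.dvd.mul_left ?_ _)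
    rw [mul_assoc]
    exact Dvd.dvd.mul_left (pow2 hS.a hS.six) _

end Cfsg.Agent.H454.F4
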